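import Cfsg.Agent.Eq.Def_Transfer
import Mathlib.GroupTheory.Nilpotent
import Mathlib.GroupTheory.Sylow
import Mathlib.GroupTheory.Subgroup.Centralizer
import Mathlib.Algebra.BigOperators.Intervals

/-!
Invariant Sylow subgroups for a coprime `p`-group action inside a group, and the fact that a
hyperplane of an elementary abelian `p`-group of order at least `p²` has nontrivial fixed points on
every nontrivial `p'`-subgroup it normalizes.
-/

set_option autoImplicit false

namespace CfsgLib.Coprime44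

open Cfsg
open scoped Pointwise

variable {G : Type*} [Group G] [Finite G] {p : ℕ} [hp : Fact p.Prime]

/-- A `p`-group normalizing a subgroup of order prime to `p` fixes one of its Sylow subgroups. -/
theorem exists_invariant_sylow {U K : Subgroup G} (hU : IsPGroup p U) (hK : ¬ p ∣ Nat.card ↥K)
    (hUK : U ≤ Subgroup.normalizer (K : Set G)) (q : ℕ) [Fact q.Prime] :
    ∃ S : Sylow q ↥K, U ≤ Subgroup.normalizer (((S : Subgroup ↥K).map K.subtype : Subgroup G) : Set G) := by
  classical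
  let φ : ↥U →* MulAut ↥K := K.normalizerMonoidHom.comp (Subgroup.inclusion hUK)
  letI : MulAction ↥U (Sylow q ↥K) := MulAction.compHom _ φ
  have hn : ¬ p ∣ Nat.card (Sylow q ↥K) := by
    intro h
    obtain ⟨S⟩ := (inferInstance : Nonempty (Sylow q ↥K))
    rw [Sylow.card_eq_index_normalizer S] at h
    exact hK (h.trans (Subgroup.index_dvd_card _))
  obtain ⟨S, hS⟩ := hU.nonempty_fixed_point_of_prime_not_dvd_card (Sylow q ↥K) hn
  refine ⟨S, fun u hu => ?_⟩
  rw [Subgroup.mem_normalizer_iff_map_conj_eq]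
  have h : φ ⟨u, hu⟩ • S = S := hS ⟨u, hu⟩
  have h2 : ((φ ⟨u, hu⟩ • S : Sylow q ↥K) : Subgroup ↥K) = (S : Subgroup ↥K) := by rw [h]
  rw [Sylow.pointwise_smul_def] at h2
  refine Subgroup.eq_of_le_of_card_ge ?_
    (Subgroup.card_map_of_injective (f := (MulAut.conj u).toMonoidHom) (MulAut.conj u).injective).ge
  rintro _ ⟨_, ⟨s, hs, rfl⟩, rfl⟩
  have hs' := Subgroup.smul_mem_pointwise_smul s (φ ⟨u, hu⟩) _ hs
  rw [h2] at hs'
  exact ⟨φ ⟨u, hu⟩ • s, hs', rfl⟩

/-- An isolated form of the averaging trick: two commuting automorphisms of exponent `p`, no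
nontrivial fixed points for any of `b`, `a * b ^ i`, forces the coprime abelian group to be trivial. -/
theorem eq_one_of_fixed_point_free {W : Type*} [CommGroup W] (a b : MulAut W) (hab : Commute a b)
    (ha : a ^ p = 1) (hb : b ^ p = 1) (hW : ∀ w : W, w ^ p = 1 → w = 1)
    (hfb : ∀ w : W, b w = w → w = 1)
    (hfa : ∀ i : ℕ, ∀ w : W, (a * b ^ i) w = w → w = 1) (v : W) : v = 1 := by
  have hnorm : ∀ c : MulAut W, c ^ p = 1 → (∀ w, c w = w → w = 1) → ∀ w : W,
      ∏ k ∈ Finset.range p, (c ^ k) w = 1 := by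
    intro c hc hf w
    apply hf
    rw [map_prod]
    have h1 : ∀ k, c ((c ^ k) w) = (c ^ (k + 1)) w := fun k => by
      rw [pow_succ' c k]; rfl
    simp only [h1]
    have h2 : (∏ k ∈ Finset.range p, (c ^ (k + 1)) w) * w
        = (∏ k ∈ Finset.range p, (c ^ k) w) * w := by
      have h3 := Finset.prod_range_succ' (fun k => (c ^ k) w) p
      rw [Finset.prod_range_succ, hc, pow_zero] at h3
      exact h3.symm
    exact mul_right_cancel h2
  have h1 : ∏ i ∈ Finset.range p, ∏ k ∈ Finset.range p, ((a * b ^ i) ^ k) v = 1 := by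
    refine Finset.prod_eq_one fun i _ => hnorm _ ?_ (hfa i) v
    rw [(hab.pow_right i).mul_pow, ha, one_mul, ← pow_mul, mul_comm, pow_mul, hb, one_pow]
  rw [Finset.prod_comm] at h1
  apply hW
  have h3 : ∀ k ∈ Finset.range p, (∏ i ∈ Finset.range p, ((a * b ^ i) ^ k) v)
      = if k = 0 then v ^ p else 1 := by
    intro k hk
    split_ifs with h0
    · subst h0; simp
    · have hcop : k.Coprime p := (((Fact.out : p.Prime).coprime_iff_not_dvd).mpr
        (Nat.not_dvd_of_pos_of_lt (Nat.pos_of_ne_zero h0) (Finset.mem_range.mp hk))).symm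
      have h4 : ∀ i, ((a * b ^ i) ^ k) v = (a ^ k) (((b ^ k) ^ i) v) := fun i => by
        rw [(hab.pow_right i).mul_pow, ← pow_mul, mul_comm i k, pow_mul]; rfl
      simp only [h4]
      rw [← map_prod, hnorm (b ^ k) (by rw [← pow_mul, mul_comm, pow_mul, hb, one_pow]) ?_ v, map_one]
      intro w hw
      refine hfb w ?_
      obtain ⟨j, hj⟩ : ∃ j : ℕ, (b ^ k) ^ j = b :=
        exists_pow_eq_self_of_coprime (hcop.coprime_dvd_right (orderOf_dvd_of_pow_eq_one hb))
      have h5 : ∀ n : ℕ, ((b ^ k) ^ n) w = w := by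
        intro n
        induction n with
        | zero => simp
        | succ n ih =>
          rw [pow_succ]
          show ((b ^ k) ^ n) ((b ^ k) w) = w
          rw [hw, ih]
      exact hj ▸ h5 j
  rw [Finset.prod_congr rfl h3, Finset.prod_ite_eq' (Finset.range p) 0 (fun _ => v ^ p),
    if_pos (Finset.mem_range.mpr (Fact.out : p.Prime).pos)] at h1
  exact h1

omit [Finite G] hp in
theorem isElementaryAbelian_mul_comm {U : Subgroup G} (hU : IsElementaryAbelian p U) {a b : G}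
    (ha : a ∈ U) (hb : b ∈ U) : a * b = b * a := by
  have := hU.1
  exact congrArg Subtype.val (mul_comm' (⟨a, ha⟩ : U) ⟨b, hb⟩)

omit [Finite G] hp in
theorem isPGroup_of_elementary {U : Subgroup G} (hU : IsElementaryAbelian p U) : IsPGroup p U :=
  fun u => ⟨1, by rw [pow_one]; exact Subtype.ext (hU.2 u u.2)⟩

/-- Abelian case. -/
theorem exists_coatom_fixes_abelian {U V : Subgroup G} (hU : IsElementaryAbelian p U)
    (hU2 : p ^ 2 ≤ Nat.card ↥U) (hV : IsMulCommutative ↥V) (hV1 : V ≠ ⊥)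
    (hVp : ¬ p ∣ Nat.card ↥V) (hUV : U ≤ Subgroup.normalizer (V : Set G)) :
    ∃ U0 : Subgroup G, U0 ≤ U ∧ IsCoatom (U0.subgroupOf U) ∧
      V ⊓ Subgroup.centralizer (U0 : Set G) ≠ ⊥ := by
  classical
  obtain ⟨U1, hU1⟩ := Set.Finite.exists_maximal
    (s := {X : Subgroup G | X ≤ U ∧ V ⊓ Subgroup.centralizer (X : Set G) ≠ ⊥}) (Set.toFinite _)
    ⟨⊥, bot_le, by
      rwa [show Subgroup.centralizer ((⊥ : Subgroup G) : Set G) = ⊤ from
        Subgroup.centralizer_eq_top_iff_subset.mpr (by simp), inf_top_eq]⟩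
  obtain ⟨⟨hU1U, hU1ne⟩, hmax⟩ := hU1
  have hup : ∀ c : G, c ∈ U → c ∉ U1 →
      V ⊓ Subgroup.centralizer ((U1 ⊔ Subgroup.zpowers c : Subgroup G) : Set G) = ⊥ := by
    intro c hc hc1
    by_contra h
    exact hc1 (hmax ⟨sup_le hU1U (Subgroup.zpowers_le.mpr hc), h⟩ le_sup_left
      (Subgroup.mem_sup_right (Subgroup.mem_zpowers c)))
  by_cases htop : U ≤ U1
  · obtain ⟨U0, hU0, -⟩ : ∃ U0 : Subgroup ↥U, IsCoatom U0 ∧ True := by
      have hnb : (⊥ : Subgroup ↥U) ≠ ⊤ := by
        intro h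
        have h1 : Nat.card ↥(⊥ : Subgroup ↥U) = Nat.card ↥(⊤ : Subgroup ↥U) := by rw [h]
        rw [Subgroup.card_bot, Subgroup.card_top] at h1
        have h2 : 2 ^ 2 ≤ p ^ 2 := Nat.pow_le_pow_left (Fact.out : p.Prime).two_le 2
        omega
      obtain h | ⟨a, ha, -⟩ := eq_top_or_exists_le_coatom (⊥ : Subgroup ↥U)
      · exact absurd h hnb
      · exact ⟨a, ha, trivial⟩
    refine ⟨U0.map U.subtype, Subgroup.map_subtype_le _, ?_, ?_⟩
    · rwa [Subgroup.subgroupOf, Subgroup.comap_map_eq_self_of_injective U.subtype_injective]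
    · exact ne_bot_of_le_ne_bot hU1ne (inf_le_inf_left _ (Subgroup.centralizer_le
        (SetLike.coe_subset_coe.mpr ((Subgroup.map_subtype_le _).trans htop))))
  by_cases hco : IsCoatom (U1.subgroupOf U)
  · exact ⟨U1, hU1U, hco, hU1ne⟩
  exfalso
  -- two independent elements above `U1`
  obtain ⟨b, hbU, hb1⟩ := SetLike.not_le_iff_exists.mp htop
  obtain ⟨Y, hY, hY1⟩ : ∃ Y : Subgroup ↥U, U1.subgroupOf U < Y ∧ Y ≠ ⊤ := by
    have h1 : U1.subgroupOf U ≠ ⊤ := fun h => htop (Subgroup.subgroupOf_eq_top.mp h)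
    by_contra h
    exact hco ⟨h1, fun Y hY => by_contra fun hY1 => h ⟨Y, hY, hY1⟩⟩
  obtain ⟨c, hcY, hc1⟩ := SetLike.exists_of_lt hY
  obtain ⟨a, -, haY⟩ := SetLike.exists_of_lt (lt_top_iff_ne_top.mpr hY1)
  have hc1' : (c : G) ∉ U1 := fun h => hc1 (Subgroup.mem_subgroupOf.mpr h)
  clear hb1 hbU b
  set W := V ⊓ Subgroup.centralizer (U1 : Set G) with hW
  have hUW : ∀ u ∈ U, u ∈ Subgroup.normalizer (W : Set G) := by
    intro u hu
    rw [Subgroup.mem_normalizer_iff_map_conj_eq, hW,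
      Subgroup.map_inf _ _ _ (MulAut.conj u).injective]
    congr 1
    · exact Subgroup.mem_normalizer_iff_map_conj_eq.mp (hUV hu)
    · refine Subgroup.mem_normalizer_iff_map_conj_eq.mp (Subgroup.le_normalizer ?_)
      exact fun z hz => isElementaryAbelian_mul_comm hU (hU1U hz) hu
  haveI : IsMulCommutative ↥W := ⟨⟨fun s t => Subtype.ext
    (show (s : G) * (t : G) = (t : G) * (s : G) from
      congrArg Subtype.val (mul_comm' (⟨s, s.2.1⟩ : ↥V) ⟨t, t.2.1⟩))⟩⟩
  open scoped IsMulCommutative in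
  let φ : ↥U →* MulAut ↥W := W.normalizerMonoidHom.comp (Subgroup.inclusion hUW)
  have hfix : ∀ u : ↥U, (u : G) ∉ U1 → ∀ w : ↥W, φ u w = w → w = 1 := by
    intro u hu w hw
    have hc : (w : G) * u = u * w := by
      have h : (u : G) * w * (u : G)⁻¹ = w := congrArg Subtype.val hw
      exact (mul_inv_eq_iff_eq_mul.mp h).symm
    have h2 := hup u u.2 hu
    have h3 : (w : G) ∈ V ⊓ Subgroup.centralizer ((U1 ⊔ Subgroup.zpowers (u : G) : Subgroup G) : Set G) := by
      refine ⟨w.2.1, fun z hz => ?_⟩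
      have hle : U1 ⊔ Subgroup.zpowers (u : G) ≤ Subgroup.centralizer ({(w : G)} : Set G) :=
        sup_le (fun z hz => Subgroup.mem_centralizer_singleton_iff.mpr (w.2.2 z hz))
          (Subgroup.zpowers_le.mpr (Subgroup.mem_centralizer_singleton_iff.mpr hc.symm))
      exact Subgroup.mem_centralizer_singleton_iff.mp (hle hz)
    rw [h2, Subgroup.mem_bot] at h3
    exact Subtype.ext h3
  obtain ⟨w0, hw0⟩ := (Subgroup.ne_bot_iff_exists_ne_one).mp hU1ne
  apply hw0
  have hpow : ∀ u : ↥U, φ u ^ p = 1 := fun u => by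
    rw [← map_pow, show u ^ p = 1 from Subtype.ext (hU.2 u u.2), map_one]
  open scoped IsMulCommutative in
  refine eq_one_of_fixed_point_free (φ a) (φ c) ?_ (hpow a) (hpow c) ?_ (hfix c hc1') ?_ w0
  · show φ a * φ c = φ c * φ a
    rw [← map_mul, ← map_mul]
    exact congrArg φ (Subtype.ext (isElementaryAbelian_mul_comm hU a.2 c.2))
  · intro w hw
    have h1 : orderOf w ∣ p := orderOf_dvd_of_pow_eq_one hw
    have h2 : orderOf w ∣ Nat.card ↥V :=
      (orderOf_dvd_natCard w).trans (Subgroup.card_dvd_of_le inf_le_left)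
    exact orderOf_eq_one_iff.mp
      (Nat.eq_one_of_dvd_coprimes (((Fact.out : p.Prime).coprime_iff_not_dvd).mpr hVp) h1 h2)
  · intro i w hw
    rw [← map_pow, ← map_mul] at hw
    refine hfix _ (fun h => haY ?_) w hw
    have h4 : a * c ^ i ∈ Y := hY.le (Subgroup.mem_subgroupOf.mpr h)
    have h5 := mul_mem h4 (inv_mem (pow_mem hcY i))
    rwa [mul_inv_cancel_right] at h5

/-- Some hyperplane of `U` centralizes a nontrivial element of any nontrivial `p'`-group it normalizes. -/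
theorem exists_coatom_fixes {U R : Subgroup G} (hU : IsElementaryAbelian p U)
    (hU2 : p ^ 2 ≤ Nat.card ↥U) (hR1 : R ≠ ⊥) (hRp : ¬ p ∣ Nat.card ↥R)
    (hUR : U ≤ Subgroup.normalizer (R : Set G)) :
    ∃ U0 : Subgroup G, U0 ≤ U ∧ IsCoatom (U0.subgroupOf U) ∧
      R ⊓ Subgroup.centralizer (U0 : Set G) ≠ ⊥ := by
  have hcard : Nat.card ↥R ≠ 1 := fun h => hR1 (Subgroup.card_eq_one.mp h)
  set r := (Nat.card ↥R).minFac with hr
  haveI : Fact r.Prime := ⟨Nat.minFac_prime hcard⟩
  obtain ⟨S, hS⟩ := exists_invariant_sylow (isPGroup_of_elementary hU) hRp hUR r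
  have hSne : (S : Subgroup ↥R) ≠ ⊥ := S.ne_bot_of_dvd_card (Nat.minFac_dvd _)
  set S' := (S : Subgroup ↥R).map R.subtype with hS'
  set V := (Subgroup.center ↥S').map S'.subtype with hVdef
  have hS'p : IsPGroup r ↥S' := S.isPGroup'.map _
  have hS'ne : S' ≠ ⊥ := by rwa [hS', Ne, Subgroup.map_eq_bot_iff_of_injective _ R.subtype_injective]
  haveI : Nontrivial ↥S' := (Subgroup.nontrivial_iff_ne_bot _).mpr hS'ne
  have hVne : V ≠ ⊥ := by
    rw [hVdef, Ne, Subgroup.map_eq_bot_iff_of_injective _ S'.subtype_injective]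
    exact (Subgroup.nontrivial_iff_ne_bot _).mp hS'p.center_nontrivial
  have hVR : V ≤ R := (Subgroup.map_subtype_le _).trans (Subgroup.map_subtype_le _)
  have hVab : IsMulCommutative ↥V := by
    refine ⟨⟨fun s t => Subtype.ext ?_⟩⟩
    obtain ⟨s', hs', hse⟩ := s.2
    obtain ⟨t', ht', hte⟩ := t.2
    show (s : G) * t = t * s
    rw [← hse, ← hte, ← map_mul, ← map_mul, Subgroup.mem_center_iff.mp ht' s']
  have hUV : U ≤ Subgroup.normalizer (V : Set G) :=
    hS.trans (by
      intro u hu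
      rw [Subgroup.mem_normalizer_iff_map_conj_eq]
      refine Subgroup.eq_of_le_of_card_ge ?_
        (Subgroup.card_map_of_injective (f := (MulAut.conj u).toMonoidHom) (MulAut.conj u).injective).ge
      rintro _ ⟨_, ⟨z, hz, rfl⟩, rfl⟩
      have hmem : u * (z : G) * u⁻¹ ∈ S' := (Subgroup.mem_normalizer_iff.mp hu z).mp z.2
      refine ⟨⟨_, hmem⟩, Subgroup.mem_center_iff.mpr fun g => Subtype.ext ?_, rfl⟩
      have hg : u⁻¹ * (g : G) * u ∈ S' := (Subgroup.mem_normalizer_iff''.mp hu g).mp g.2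
      have h5 := congrArg Subtype.val (Subgroup.mem_center_iff.mp hz ⟨_, hg⟩)
      show (g : G) * (u * z * u⁻¹) = u * z * u⁻¹ * g
      have h6 : u⁻¹ * (g : G) * u * z = z * (u⁻¹ * g * u) := h5
      calc (g : G) * (u * z * u⁻¹) = u * (u⁻¹ * g * u * z) * u⁻¹ := by group
        _ = _ := by rw [h6]; group)
  obtain ⟨U0, h1, h2, h3⟩ := exists_coatom_fixes_abelian hU hU2 hVab hVne
    (fun h => hRp (h.trans (Subgroup.card_dvd_of_le hVR))) hUV
  exact ⟨U0, h1, h2, ne_bot_of_le_ne_bot h3 (inf_le_inf_right _ hVR)⟩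

end CfsgLib.Coprime44
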